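import Cfsg.Agent.Lyons.Tools
import Cfsg.Agent.PLocal.Standard
import Cfsg.Agent.PLocal.NCl
import Cfsg.Agent.PLocal.SnSylow
import Cfsg.Agent.PLocal.BBalance
import Cfsg.Agent.Transfer.ThompsonTransfer
import Cfsg.Agent.Inv.SylowTwo

/-! 2-components of involution centralizers: elementwise tools (for S1315). -/

set_option autoImplicit false
set_option linter.unusedSectionVars false

namespace Cfsg.Agent.IQ

open Cfsg Subgroup Cfsg.Agent.PLocal.Amb Cfsg.Agent.Lyons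
open Cfsg.Agent.PLocal
open scoped commutatorElement

variable {G : Type*} [Group G] [Finite G] {a b x y g : G} {M N Q R S O : Subgroup G}

/-- a 2-element -/
def T2 (x : G) : Prop := ∃ k : ℕ, x ^ 2 ^ k = 1

theorem T2.of (hS : IsPGroup 2 S) (h : x ∈ S) : T2 x := isPGroup_iff.1 hS x h

theorem T2.sq (h : x * x = 1) : T2 x := ⟨1, by rwa [pow_one, _root_.sq]⟩

/-- a 2-component of `C(a)` -/
abbrev Cp (a : G) (M : Subgroup G) : Prop := IsPComponentOf 2 M 𝐳[a]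

/-- the 2-layer of `C(a)` -/
abbrev LL (a : G) : Subgroup G := pLayerOf 2 𝐳[a]

/-- the centralizer of `M` modulo `O(C(a))` -/
def Cm (a : G) (M : Subgroup G) : Subgroup G where
  carrier := {g | g ∈ 𝐳[a] ∧ ∀ x ∈ M, g * x * g⁻¹ * x⁻¹ ∈ oc 𝐳[a]}
  one_mem' := ⟨one_mem _, fun x _ => by simp⟩
  mul_mem' := fun {g h} hg hh => ⟨mul_mem hg.1 hh.1, fun x hx => by
    have := mul_mem (conj_mem_of_mem_normalizer (le_norm_oc _ hg.1) (hh.2 x hx)) (hg.2 x hx)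
    convert this using 1
    group⟩
  inv_mem' := fun {g} hg => ⟨inv_mem hg.1, fun x hx => by
    have := inv_conj_mem_of_mem_normalizer (le_norm_oc _ hg.1) (inv_mem (hg.2 x hx))
    convert this using 1
    group⟩

theorem mz : y ∈ 𝐳[x] ↔ y * x = x * y := mem_centralizer_singleton_iff

theorem mz_conj (h : g ∈ 𝐳[x]) : g * x * g⁻¹ = x := by rw [mz.1 h]; group

theorem mz_symm (h : y ∈ 𝐳[x]) : x ∈ 𝐳[y] := mz.2 (mz.1 h).symm

theorem mem_Cm_of_cent (hg : g ∈ 𝐳[a]) (h : g ∈ 𝐂[M]) : g ∈ Cm a M :=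
  ⟨hg, fun x hx => by rw [← h x hx]; simp⟩

theorem Cm_conj (h : x ∈ Cm a M) (g : G) : g * x * g⁻¹ ∈ Cm (g * a * g⁻¹) cj(g, M) := by
  refine ⟨by rw [centralizer_singleton_conj]; exact conj_mem_cj g h.1, fun y hy => ?_⟩
  rw [centralizer_singleton_conj, oc_cj, mem_cj]
  have := h.2 _ (mem_cj.1 hy)
  convert this using 1
  group

theorem Cm_conj' (h : x ∈ Cm a M) (hg : g ∈ 𝐳[a]) (hn : g ∈ 𝐍[M]) : g * x * g⁻¹ ∈ Cm a M := by
  have := Cm_conj h g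
  rwa [mz_conj hg, cj_of_mem_normalizer hn] at this

theorem comm_of (hS : IsPGroup 2 S) (hx : x ∈ S) (h1 : x ∈ Cm a M) (hy : y ∈ S) (h2 : y ∈ M) :
    x * y = y * x := by
  have := eq_one_of_odd hS (mul_mem (mul_mem (mul_mem hx hy) (inv_mem hx)) (inv_mem hy))
    (odd_orderOf (odd_oc _) (h1.2 y h2))
  rwa [mul_inv_eq_one, mul_inv_eq_iff_eq_mul] at this

theorem mem_of_sup {H B : Subgroup G} (hH : Grp.SnIn H B) (hy : T2 y) (hB : y ∈ B)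
    (h : y ∈ H ⊔ oc B) : y ∈ H :=
  PGen.le_of_le_sup_ppcOf (p := 2) (I := zpowers y)
    (fun _ k => fun z hz => k z hz (T2.of (isPGroup_zpowers hy) hz)) (zpowers_le.2 hB) hH
    (zpowers_le.2 h) (mem_zpowers y)

namespace Cp

theorem conj (h : Cp a M) (g : G) : Cp (g * a * g⁻¹) cj(g, M) := by
  unfold Cp
  rw [centralizer_singleton_conj]
  exact IsPComponentOf.cj h g

theorem conj' (h : Cp a M) (hg : g ∈ 𝐳[a]) : Cp a cj(g, M) := by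
  have := h.conj g
  rwa [mz_conj hg] at this

theorem sn (h : Cp a M) : Grp.SnIn M 𝐳[a] := (isPComponentOf_iff.1 h).1

theorem perf (h : Cp a M) : ⁅M, M⁆ = M := isPQS_perfect (IsPComponentOf.isPQS h)

theorem le_Cm (hM : Cp a M) (hN : Cp a N) (ne : N ≠ M) : N ≤ Cm a M := fun _ hg =>
  ⟨hN.1 hg, fun _ hx => IsPComponentOf.commutator_le_of_ne hN hM ne (commutator_mem_commutator hg hx)⟩

theorem Cm_le (h : Cp a M) : Cm a M ≤ 𝐍[M] := fun g hg => by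
  refine mem_normalizer_of_cj_le (PGen.le_of_le_sup_ppcOf (p := 2)
    (isPQS_pGen (IsPComponentOf.isPQS (h.conj' hg.1))) (h.conj' hg.1).1 h.sn
    (cj_le_iff_forall.2 fun x hx => ?_))
  have := mul_mem (mem_sup_right (S := M) (hg.2 x hx)) (mem_sup_left (T := oc 𝐳[a]) hx)
  rwa [inv_mul_cancel_right] at this

theorem le_LL (h : Cp a M) : M ≤ LL a := le_map_pLayer h.1 h.2

theorem LL_le_sup (h : Cp a M) : LL a ≤ M ⊔ (LL a ⊓ Cm a M) :=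
  map_pLayer_le_iff.2 fun N h1 h2 => by
    by_cases e : N = M
    · exact e.le.trans le_sup_left
    · exact (le_inf (le_map_pLayer h1 h2) (h.le_Cm ⟨h1, h2⟩ e)).trans le_sup_right

theorem LL_le (h : Cp a M) : LL a ≤ 𝐍[M] :=
  h.LL_le_sup.trans (sup_le le_normalizer (inf_le_right.trans h.Cm_le))

theorem syl (h : Cp a M) (hS : IsSyl 2 S 𝐳[a]) : IsSyl 2 (S ⊓ M) M :=
  CP.isSyl_inf_of_snIn hS h.sn

theorem cj_le_Cm (h : Cp a M) (hg : g ∈ 𝐳[a]) (hn : g ∉ 𝐍[M]) : cj(g, M) ≤ Cm a M :=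
  h.le_Cm (h.conj' hg) fun e => hn (cj_eq_iff.1 e)

end Cp

theorem LL_norm (a : G) : 𝐳[a] ≤ 𝐍[LL a] := le_normalizer_map_subtype _

theorem LL_le (a : G) : LL a ≤ 𝐳[a] := map_subtype_le _

/-- coprime covering -/
theorem cov (hO : Odd (Nat.card O)) (hR : IsPGroup 2 R) (hn : R ≤ 𝐍[O])
    (h : ∀ r ∈ R, g * r * g⁻¹ * r⁻¹ ∈ O) : ∃ o ∈ O, o * g ∈ 𝐂[R] := by
  have hS : IsSyl 2 R (R ⊔ O) := ⟨le_sup_left, hR, fun R' h1 h2 h3 x hx => by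
    obtain ⟨r, hr, o, ho, rfl⟩ := (mem_sup_of_le_normalizer_right hn).1 (h3 hx)
    rw [eq_one_of_odd h1 ((R'.mul_mem_cancel_left (h2 hr)).1 hx) (odd_orderOf hO ho), mul_one]
    exact hr⟩
  obtain ⟨k, hk, e⟩ := hS.exists_cj_le (isPGroup_cj g hR) (cj_le_iff_forall.2 fun x hx => by
    simpa using mul_mem (mem_sup_right (S := R) (h x hx)) (mem_sup_left (T := O) hx))
  obtain ⟨r, hr, o, ho, rfl⟩ := (mem_sup_of_le_normalizer_right hn).1 hk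
  rw [cj_mul, cj_le_iff, cj_of_mem (inv_mem hr), ← cj_mul] at e
  refine ⟨o, ho, fun x hx => ?_⟩
  have h1 : o * g * x * (o * g)⁻¹ * x⁻¹ ∈ O := by
    have := mul_mem (mul_mem ho (h x hx)) (conj_mem_of_mem_normalizer (hn hx) (inv_mem ho))
    convert this using 1
    group
  have := eq_one_of_odd hR (mul_mem (e (conj_mem_cj _ hx)) (inv_mem hx)) (odd_orderOf hO h1)
  rw [mul_inv_eq_one, mul_inv_eq_iff_eq_mul] at this
  exact this.symm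

/-- `L`-balance -/
theorem bal (ha : T2 a) (hx : a ∈ 𝐳[x]) : pLayerOf 2 (𝐳[a] ⊓ 𝐳[x]) ≤ LL x :=
  map_pLayer_le_iff.2 fun K h1 h2 => by
    have h3 := IsPComponentOf.subgroupOf (p := 2) ⟨h1, h2⟩ (h1.trans inf_le_right)
    have e : (𝐳[a] ⊓ 𝐳[x]).subgroupOf 𝐳[x] = 𝐂[zpowers (⟨a, hx⟩ : 𝐳[x])] := by
      rw [PLocal.centralizer_zpowers, inf_subgroupOf_right]
      ext u
      simp only [mem_subgroupOf, mem_centralizer_singleton_iff, Subtype.ext_iff, coe_mul]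
    rw [e] at h3
    obtain ⟨k, hk⟩ := ha
    have := IsPComponentOf.le_pLayer_two h3 (isPGroup_zpowers ⟨k, Subtype.ext hk⟩)
    rw [← map_subgroupOf_of_le (h1.trans inf_le_right)]
    exact map_mono this

theorem pb (ha : T2 a) (hx : x ∈ 𝐳[a]) (x2 : T2 x) (h1 : y ∈ 𝐳[a]) (h2 : y ∈ 𝐳[x]) (hy : T2 y)
    {D : Subgroup (𝐳[a] ⧸ pPrimeCore 2 𝐳[a])} (hD : D ≤ 𝐳[cbHom 2 𝐳[a] ⟨x, hx⟩])
    (hc : IsComponent (D.subgroupOf 𝐳[cbHom 2 𝐳[a] ⟨x, hx⟩])) (hyD : cbHom 2 𝐳[a] ⟨y, h1⟩ ∈ D) :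
    y ∈ LL x := by
  refine bal ha (mz_symm hx) ?_
  obtain ⟨k, hk⟩ := x2
  have e1 : cb 2 𝐳[a] (𝐳[a] ⊓ 𝐳[x]) = 𝐳[cbHom 2 𝐳[a] ⟨x, hx⟩] := by
    rw [inf_comm, cb_inf_right]
    exact cb_centralizer_singleton (a := ⟨x, hx⟩) hk
  have e2 := map_map_pLayer_of_coprime (p := 2) ((𝐳[a] ⊓ 𝐳[x]).subgroupOf 𝐳[a]) (cbHom 2 𝐳[a])
    ((coprime_ker_cbHom 2 _).coprime_dvd_left (card_dvd_of_le inf_le_left))
  have e3 := map_map_pLayer (p := 2) ((𝐳[a] ⊓ 𝐳[x]).subgroupOf 𝐳[a]) (𝐳[a]).subtype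
    (subtype_injective _)
  rw [map_subgroupOf_of_le inf_le_left] at e3
  change _ = pLayerOf 2 (cb 2 𝐳[a] (𝐳[a] ⊓ 𝐳[x])) at e2
  rw [e1] at e2
  obtain ⟨l, hl, e⟩ := e2.ge (le_map_pLayer hD (pcomp_of_comp hc (qsS_two_dvd_card hc.2)) hyD)
  have l1 : (l : G) ∈ pLayerOf 2 (𝐳[a] ⊓ 𝐳[x]) := e3.le ⟨l, hl, rfl⟩
  have l2 : (l : G)⁻¹ * y ∈ oc 𝐳[a] := ⟨_, QuotientGroup.eq.1 e, rfl⟩
  have l3 : (l : G)⁻¹ * y ∈ oc (𝐳[a] ⊓ 𝐳[x]) :=
    le_oc (K := oc 𝐳[a] ⊓ (𝐳[a] ⊓ 𝐳[x])) inf_le_right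
      (le_normalizer_inf (inf_le_left.trans (le_norm_oc _)) le_normalizer)
      (odd_of_le inf_le_left (odd_oc _))
      (mem_inf.2 ⟨l2, mul_mem (inv_mem (map_subtype_le _ l1)) (mem_inf.2 ⟨h1, h2⟩)⟩)
  refine mem_of_sup (Grp.SnIn.of_le_normalizer (map_subtype_le _) (le_normalizer_map_subtype _)) hy
    (mem_inf.2 ⟨h1, h2⟩) ?_
  simpa using mul_mem (mem_sup_left l1) (mem_sup_right (S := pLayerOf 2 (𝐳[a] ⊓ 𝐳[x])) l3)

/-- a component centralized modulo the core -/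
theorem cen (ha : T2 a) (h : Cp a M) (hb : b ∈ Cm a M) (b2 : T2 b) (h1 : y ∈ M) (h2 : y ∈ 𝐳[b])
    (hy : T2 y) : y ∈ LL b := by
  have hc := IsPComponentOf.comp_cb h
  have hD : cb 2 𝐳[a] M ≤ 𝐳[cbHom 2 𝐳[a] ⟨b, hb.1⟩] := by
    rintro _ ⟨u, hu, rfl⟩
    rw [mz, ← map_mul, ← map_mul, eq_comm, ← mul_inv_eq_one, ← map_inv, ← map_mul]
    obtain ⟨o, ho, e⟩ := hb.2 u hu
    refine (QuotientGroup.eq_one_iff _).2 ?_
    have e2 : ⟨b, hb.1⟩ * u * (u * ⟨b, hb.1⟩)⁻¹ = o :=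
      Subtype.ext (by rw [show (o : G) = _ from e]; simp [mul_assoc])
    exact e2 ▸ ho
  exact pb ha hb.1 b2 (h.1 h1) h2 hy hD ((comp_subgroupOf_iff hD).2 ⟨hc.1.subgroupOf, hc.2⟩)
    (mem_cb h1)

/-- the diagonal of two swapped components -/
theorem diag (ha : T2 a) (h : Cp a M) (hx : x ∈ 𝐳[a]) (x2 : x * x = 1) (hn : x ∉ 𝐍[M]) (h1 : y ∈ M)
    (h2 : y * x * (y * x) ∈ 𝐳[x]) (hy : T2 (y * x * (y * x))) : y * x * (y * x) ∈ LL x := by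
  have hc := IsPComponentOf.comp_cb h
  have x1 : orderOf x = 2 := orderOf_eq_prime (by rwa [_root_.sq]) fun e => hn (e ▸ one_mem _)
  have hn' : cbHom 2 𝐳[a] ⟨x, hx⟩ ∉ 𝐍[cb 2 𝐳[a] M] := fun k => by
    have := comap_normalizer_le_normalizer_pcomp h.2 k
    rw [normalizer_eq_subgroupOf, map_subgroupOf_of_le h.1] at this
    exact hn this
  have cyc := isCycled_of_comp hc (orderOf_cbHom (a := ⟨x, hx⟩) x1) hn'
  refine pb ha hx (T2.sq x2) (mul_mem (mul_mem (h.1 h1) hx) (mul_mem (h.1 h1) hx)) h2 hy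
    cyc.range_le_centralizer (cyc.comp_range hc) ⟨⟨_, mem_cb (a := ⟨y, h.1 h1⟩) h1⟩, ?_⟩
  rw [IsCycled.diagHom_apply, _root_.sq, ← map_mul, ← map_mul]
  rfl

end Cfsg.Agent.IQ
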