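import Cfsg.Agent.IQ.Ic

/-! Two intrinsic 2-components whose involutions normalize each other's component (for S1315). -/

set_option autoImplicit false
set_option linter.unusedSectionVars false

namespace Cfsg.Agent.IQ

open Cfsg Subgroup Cfsg.Agent.PLocal.Amb Cfsg.Agent.Lyons

variable {G : Type*} [Group G] [Finite G] {a b c e g m p q t u w x y z : G}
  {J K M N Q R S S' : Subgroup G}

theorem Cp.cjm (h : Cp a M) (hg : g ∈ 𝐳[a]) (hn : g ∉ 𝐍[M]) (hp : p ∈ M) :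
    g * p * g⁻¹ ∈ Cm a M := h.cj_le_Cm hg hn (conj_mem_cj g hp)

theorem cjS (hg : g ∈ S) (hp : p ∈ S) : g * p * g⁻¹ ∈ S := mul_mem (mul_mem hg hp) (inv_mem hg)

theorem Cp.cc (h : Cp a M) (hS : IsSyl 2 S 𝐳[a]) (hg : g ∈ S) (hn : g ∉ 𝐍[M]) (hp : p ∈ S ⊓ M)
    (hq : q ∈ S ⊓ M) : Commute (g * p * g⁻¹) q :=
  comm_of hS.pgrp (cjS hg hp.1) (h.cjm (hS.le hg) hn hp.2) hq.1 hq.2

theorem comm4 (h : Ic z J) (ht : t ∈ J) (hc : c ∈ J) (t2 : t * t = z) (c2 : c * c = z)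
    (hh : Commute c t) : c = t ∨ c = z * t := by
  rcases h.uq (c * t⁻¹) (mul_mem hc (inv_mem ht)) (by
    rw [← sq, hh.inv_right.mul_pow, inv_pow, sq, sq, c2, t2, mul_inv_cancel]) with k | k
  exacts [Or.inl (mul_inv_eq_one.1 k), Or.inr (mul_inv_eq_iff_eq_mul.1 k)]

theorem ord4 (h : Ic z J) (t2 : t * t = z) : orderOf t = 4 :=
  orderOf_eq_prime_pow (p := 2) (n := 1) (by rw [pow_one, sq, t2]; exact h.ne)
    (by rw [show 2 ^ (1 + 1) = 2 * 2 from rfl, pow_mul, sq, sq, t2, h.sq])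

theorem QD.n4 (h : QD Q z x) (h4 : orderOf x = 4) (hy : y ∈ Q) (y2 : y * y = z) (o4 : orderOf y = 4)
    (hb : b ∈ Q) (hn : b ∉ zpowers y) : b * y * b⁻¹ = z * y := by
  obtain ⟨a, ha, e⟩ := h.invw hy y2
  have an : a⁻¹ ∉ zpowers y := fun k => h.z1 (by
    rwa [comm_zpowers (inv_mem_iff.1 k) (mem_zpowers y), mul_inv_cancel_right, right_eq_mul] at e)
  have := idx2 (zpowers_le.2 hy) (by rw [h.card, Nat.card_zpowers, o4, h4]) hb (inv_mem ha) hn an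
  calc b * y * b⁻¹ = b * a⁻¹ * (a * y * a⁻¹) * (b * a⁻¹)⁻¹ := by group
    _ = z * y := by
      rw [e, comm_zpowers this (y2 ▸ mul_mem (mul_mem (mem_zpowers y) (mem_zpowers y)) (mem_zpowers y)),
        mul_inv_cancel_right]

theorem QD.n4' (h : QD Q z x) (h4 : orderOf x = 4) (hy : y ∈ Q) (y2 : y * y = z)
    (o4 : orderOf y = 4) : Q ≤ 𝐍[zpowers y] := fun b hb => by
  by_cases k : b ∈ zpowers y
  · exact le_normalizer k
  · refine mem_normalizer_of_cj_le (cj_le_iff_forall.2 fun u hu => ?_)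
    rw [conj_zpowers ((h.n4 h4 hy y2 o4 hb k).trans (inv_eq_of_sq h.zz y2).symm) hu]
    exact inv_mem hu

/-- the symmetric configuration -/
structure Cf (z e : G) (J K R S S' : Subgroup G) : Prop where
  hJ : Ic z J
  hK : Ic e K
  ne : z ≠ e
  zK : z ∈ 𝐍[K]
  eJ : e ∈ 𝐍[J]
  r : IsSyl 2 R (𝐳[z] ⊓ 𝐳[e])
  s : IsSyl 2 S 𝐳[z]
  s' : IsSyl 2 S' 𝐳[e]
  rs : R ≤ S
  rs' : R ≤ S'
  card : Nat.card ↥(S ⊓ J) = Nat.card ↥(S' ⊓ K)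

namespace Cf

theorem symm (h : Cf z e J K R S S') : Cf e z K J R S' S :=
  ⟨h.hK, h.hJ, h.ne.symm, h.eJ, h.zK, inf_comm 𝐳[z] 𝐳[e] ▸ h.r, h.s', h.s, h.rs', h.rs, h.card.symm⟩

theorem zR (h : Cf z e J K R S S') : z ∈ R :=
  mem_of_cent h.r h.hJ.t2 ⟨mz.2 rfl, h.hK.norm_le h.zK⟩ inf_le_left

theorem cz (h : Cf z e J K R S S') (hx : x ∈ R) : x * z * x⁻¹ = z := mz_conj (h.r.le hx).1

theorem ce (h : Cf z e J K R S S') (hx : x ∈ R) : x * e * x⁻¹ = e := mz_conj (h.r.le hx).2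

theorem memR (h : Cf z e J K R S S') (hx : x ∈ S) (he : x ∈ 𝐳[e]) : x ∈ R :=
  h.r.max (S ⊓ 𝐳[e]) (h.s.pgrp.to_le inf_le_left) (le_inf h.rs (h.r.le.trans inf_le_right))
    (inf_le_inf_right _ h.s.le) ⟨hx, he⟩

theorem T (h : Cf z e J K R S S') (hc : c ∈ R ⊓ J) : c ∈ S ⊓ J := ⟨h.rs hc.1, hc.2⟩

theorem sq1 (h : Cf z e J K R S S') (hc : c ∈ J) (hn : c ∉ 𝐍[K]) : c * c ≠ 1 := fun k => by
  rcases h.hJ.uq c hc k with rfl | rfl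
  exacts [hn (one_mem _), hn h.zK]

theorem lemG (h : Cf z e J K R S S') (hc : c ∈ R ⊓ J) (hc' : c ∉ 𝐍[K]) (ha : a ∈ R ⊓ K)
    (ha' : a ∉ 𝐍[J]) : c * c = z := by
  have k1 := (h.hK.cp.cc h.s' (h.rs' hc.1) hc' (h.symm.T ha) (h.symm.T ha)).eq
  have k2 : c * (a * c * a⁻¹)⁻¹ = a * c * a⁻¹ * (a * a * c * (a * a)⁻¹)⁻¹ := by
    calc _ = c * a * c⁻¹ * a * (a * a)⁻¹ := by group
      _ = _ := by rw [k1]; group
  have aS := h.rs ha.1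
  have m1 := h.hJ.cp.cjm (h.s.le aS) ha' hc.2
  by_cases k : a * a ∈ 𝐍[J]
  · have c2 : a * a * c * (a * a)⁻¹ ∈ S ⊓ J :=
      ⟨cjS (mul_mem aS aS) (h.rs hc.1), conj_mem_of_mem_normalizer k hc.2⟩
    have k3 : a * (c * c) * a⁻¹ = c * (a * a * c * (a * a)⁻¹) := by
      calc _ = a * c * a⁻¹ * (a * a * c * (a * a)⁻¹)⁻¹ * (a * a * c * (a * a)⁻¹ * (a * c * a⁻¹)) := by
            group
        _ = _ := by rw [← k2, ← (h.hJ.cp.cc h.s aS ha' (h.T hc) c2).eq]; group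
    have k4 := h.hJ.sq_Cm (T2.of h.s.pgrp (mul_mem (h.rs hc.1) c2.1)) (mul_mem hc.2 c2.2)
      (by rw [← k3, ← conj_mul]; exact mul_mem m1 m1)
    rw [← k3, conj_mul, conj_eq_one_iff] at k4
    exact (h.hJ.uq _ (mul_mem hc.2 hc.2) k4).resolve_left (h.sq1 hc.2 hc')
  · refine (h.sq1 hc.2 hc' (h.hJ.sq_Cm (T2.of h.r.pgrp hc.1) hc.2 ?_)).elim
    rw [mul_inv_eq_iff_eq_mul.1 k2]
    exact mul_mem (mul_mem m1 (inv_mem (h.hJ.cp.cjm (h.s.le (mul_mem aS aS)) k hc.2))) m1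

theorem a1 (h : Cf z e J K R S S') (ht : t ∈ R ⊓ J) (t2 : t * t = z) (tK : t ∈ 𝐍[K])
    (hw : w ∈ R ⊓ K) (hw' : w ∉ 𝐍[J]) (hz : z ∉ Cm e K) : False := by
  have wS := h.rs hw.1
  have m1 : (w * t * w⁻¹)⁻¹ ∈ S ⊓ Cm z J :=
    inv_mem ⟨cjS wS (h.rs ht.1), h.hJ.cp.cjm (h.s.le wS) hw' ht.2⟩
  have e1 : t * (w * t * w⁻¹)⁻¹ = e := by
    refine (h.hK.uq _ ?_ ?_).resolve_left fun k => h.hJ.not_Cm ht.2 t2 ?_
    · simpa [mul_assoc] using mul_mem (conj_mem_of_mem_normalizer tK hw.2) (inv_mem hw.2)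
    · rw [← sq, (h.hJ.cp.cc h.s wS hw' (h.T ht) (h.T ht)).symm.inv_right.mul_pow, inv_pow, sq, sq,
        conj_mul, t2, h.cz hw.1, mul_inv_cancel]
    · rw [mul_inv_eq_one.1 k]
      exact inv_mem_iff.1 m1.2
  obtain ⟨x, hx⟩ := h.hJ.qd (h.hJ.cp.syl h.s)
  obtain ⟨x', hx'⟩ := h.hK.qd (h.hK.cp.syl h.s')
  obtain ⟨c, hc, oc⟩ := h.hJ.trc h.s hx (h.T ht) t2 m1 (e1.symm ▸ h.r)
  have cK : c ∈ 𝐍[K] := by
    by_contra k
    have k1 : Commute c (t * (w * t * w⁻¹)⁻¹) := e1 ▸ mz.1 (h.r.le hc.1).2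
    have k2 := (h.hJ.cp.cc h.s wS hw' (h.T ht) (h.T hc)).symm
    rcases comm4 h.hJ ht.2 hc.2 t2 (h.lemG hc k hw hw')
      (by simpa only [inv_mul_cancel_right] using k1.mul_right k2) with rfl | rfl
    exacts [k tK, k (mul_mem h.zK tK)]
  obtain ⟨n, hn⟩ := hx.four
  have n0 := orderOf_pos x
  have cn : c ^ (2 * n) = z := (h.hJ.uq _ (pow_mem hc.2 _) (by
    rw [← pow_add, show 2 * n + 2 * n = orderOf c by omega, pow_orderOf_eq_one])).resolve_left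
    (pow_ne_one_of_lt_orderOf (by omega) (by omega))
  have k3 := (h.hJ.cp.cc h.s wS hw' (h.T hc) (h.T hc)).symm
  have od : orderOf (c * (w * c * w⁻¹)⁻¹) = 2 * n := by
    refine Nat.dvd_antisymm (orderOf_dvd_of_pow_eq_one (by
      rw [k3.inv_right.mul_pow, inv_pow, conj_pow, cn, h.cz hw.1, mul_inv_cancel])) ?_
    have k4 := pow_orderOf_eq_one (c * (w * c * w⁻¹)⁻¹)
    rw [k3.inv_right.mul_pow, inv_pow, mul_inv_eq_one] at k4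
    have k5 := h.hJ.sq_Cm ((T2.of h.r.pgrp hc.1).pow _) (pow_mem hc.2 _)
      (k4 ▸ pow_mem (h.hJ.cp.cjm (h.s.le wS) hw' hc.2) _)
    rw [← pow_add, ← two_mul, ← orderOf_dvd_iff_pow_eq_one, oc, hn] at k5
    exact Nat.dvd_of_mul_dvd_mul_left two_pos (by rwa [← mul_assoc])
  have k6 := hx'.aut (c := c) (d := c * (w * c * w⁻¹)⁻¹)
    (le_normalizer_inf (L := zpowers c) ((zpowers_le.2 (h.rs' hc.1)).trans le_normalizer)
      (zpowers_le.2 cK) (mem_zpowers c)) (h.symm.T hw) (h.symm.sq1 hw.2 hw')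
    ⟨h.rs' (mul_mem hc.1 (inv_mem (cjS hw.1 hc.1))), by
      simpa [mul_assoc] using mul_mem (conj_mem_of_mem_normalizer cK hw.2) (inv_mem hw.2)⟩
    (by rw [mul_assoc, mul_assoc, ← k3.inv_inv.eq]; group) (by group) (by
      have := h.card
      rw [hx.card, hx'.card] at this
      omega)
  rw [od, cn] at k6
  exact hz (h.hK.zst h.zK h.hJ.sq (h.hK.cp.syl h.s') k6)

theorem sig (h : Cf z e J K R S S') (hu : u ∈ S ⊓ J) (ue : u * e * u⁻¹ = z * e) (hw : w ∈ R ⊓ K)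
    (w2 : w * w = e) (hw' : w ∉ 𝐍[J]) : u * (w * u * w⁻¹) ∈ R ∧
      w * (u * (w * u * w⁻¹)) * w⁻¹ = z * (u * (w * u * w⁻¹)) ∧
      (u * (w * u * w⁻¹))⁻¹ * w * (u * (w * u * w⁻¹))⁻¹⁻¹ * w⁻¹ = z ∧ (u * (w * u * w⁻¹))⁻¹ ∉ 𝐍[K] := by
  have wS := h.rs hw.1
  have uz := mz_conj (h.s.le hu.1)
  have k1 : u * (w * u * w⁻¹) ∈ R := h.memR (mul_mem hu.1 (cjS wS hu.1)) (mz.2 (by
    rw [← mul_inv_eq_iff_eq_mul]
    calc _ = u * (w * (u * (w⁻¹ * e * w⁻¹⁻¹) * u⁻¹) * w⁻¹) * u⁻¹ := by group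
      _ = e := by
        rw [h.ce (inv_mem hw.1), ue, ← conj_mul (b := w), h.cz hw.1, h.ce hw.1, ← conj_mul (b := u), uz, ue,
          ← mul_assoc, h.hJ.sq, one_mul]))
  have k2 : w * (u * (w * u * w⁻¹)) * w⁻¹ = z * (u * (w * u * w⁻¹)) := by
    calc _ = w * u * w⁻¹ * (z⁻¹ * (z * (w * w)) * u) * (w * w)⁻¹ := by group
      _ = w * u * w⁻¹ * z * (w * u * w⁻¹)⁻¹ * (w * u * w⁻¹ * u) := by rw [w2, ← ue, h.hJ.inv]; group
      _ = _ := by rw [mz_conj (h.s.le (cjS wS hu.1)), (h.hJ.cp.cc h.s wS hw' hu hu).eq]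
  have k3 : (u * (w * u * w⁻¹))⁻¹ * w * (u * (w * u * w⁻¹))⁻¹⁻¹ * w⁻¹ = z := by
    rw [← h.cz (inv_mem k1), inv_inv, mul_assoc _ z, ← k2]
    group
  refine ⟨k1, k2, k3, fun k => ?_⟩
  rcases h.hK.uq z (k3 ▸ mul_mem (conj_mem_of_mem_normalizer k hw.2) (inv_mem hw.2)) h.hJ.sq with k | k
  exacts [h.hJ.ne k, h.ne k]

theorem caseB (h : Cf z e J K R S S') (hB : ∀ t ∈ R ⊓ J, t * t = 1) (hw : w ∈ R ⊓ K)
    (hw' : w ∉ 𝐍[J]) (w2 : w * w ∈ 𝐍[J]) : False := by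
  have eR := h.symm.zR
  obtain ⟨x, hx⟩ := h.hJ.qd (h.hJ.cp.syl h.s)
  obtain ⟨t, ht, te⟩ := h.hJ.ng h.s.pgrp (h.rs eR) h.hK.sq h.eJ fun k => by
    obtain ⟨t, ht, t2⟩ := hx.o4
    exact h.hJ.ne (t2 ▸ hB t ⟨h.memR (hx.le ht).1 (k (hx.le ht)), (hx.le ht).2⟩)
  have we : w * w = e := by
    by_contra k
    obtain ⟨f, hf, f2⟩ := h.hK.o4 (T2.of h.r.pgrp (mul_mem hw.1 hw.1)) (mul_mem hw.2 hw.2) fun k1 =>
      (h.hK.uq _ (mul_mem hw.2 hw.2) k1).elim (h.symm.sq1 hw.2 hw') k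
    have fR := zpowers_le.2 (mul_mem hw.1 hw.1) hf
    have k1 : t⁻¹ * (f * t * f⁻¹) ∈ J :=
      mul_mem (inv_mem ht.2) (conj_mem_of_mem_normalizer (zpowers_le.2 w2 hf) ht.2)
    have k2 : f * (t⁻¹ * (f * t * f⁻¹)) * f⁻¹ = (t⁻¹ * (f * t * f⁻¹))⁻¹ := by
      rcases h.hJ.uq _ k1 (hB _ ⟨h.memR (mul_mem (inv_mem ht.1) (cjS (h.rs fR) ht.1)) (mz.2 (by
        rw [← mul_inv_eq_iff_eq_mul]
        calc _ = t⁻¹ * (f * (t * (f⁻¹ * e * f⁻¹⁻¹) * t⁻¹) * f⁻¹) * t := by group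
          _ = e := by
            rw [h.ce (inv_mem fR), te, ← conj_mul (b := f), h.cz fR, h.ce fR, ← te]; group)), k1⟩) with k | k
      · simp [k]
      · rw [k, h.cz fR, h.hJ.inv]
    have k3 : f * f * t * (f * f)⁻¹ = t := by
      calc _ = f * t * f⁻¹ * (f * (t⁻¹ * (f * t * f⁻¹)) * f⁻¹) := by group
        _ = t := by rw [k2]; group
    rw [f2, mul_inv_eq_iff_eq_mul] at k3
    rw [← k3, mul_inv_cancel_right, right_eq_mul] at te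
    exact h.hJ.ne te
  obtain ⟨sR, -, k3, sK⟩ := h.sig ht te hw we hw'
  rw [← inv_mem_iff] at sR
  generalize (t * (w * t * w⁻¹))⁻¹ = s at *
  obtain ⟨x', hx'⟩ := h.hK.qd (h.hK.cp.syl h.s')
  obtain ⟨u, hu, uw⟩ := hx'.invw (h.symm.T hw) we
  have ue := mz_conj (h.s'.le hu.1)
  have tz := mz_conj (h.s.le ht.1)
  have ez := mz.1 (h.r.le eR).1
  have uz : u * z * u⁻¹ = z * e := by
    calc _ = u * (s * w * s⁻¹ * w⁻¹) * u⁻¹ := by rw [k3]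
      _ = u * (s * w * s⁻¹) * u⁻¹ * (u * w * u⁻¹)⁻¹ := by group
      _ = s * w * s⁻¹ * w⁻¹ * e⁻¹ := by
        rw [uw, ← (h.hK.cp.cc h.s' (h.rs' sR) sK (h.symm.T hw) hu).eq]; group
      _ = z * e := by rw [k3, h.hK.inv]
  have gz : t * u * z * (t * u)⁻¹ = e := by
    calc _ = t * (u * z * u⁻¹) * t⁻¹ := by group
      _ = e := by rw [uz, ← conj_mul (b := t), tz, te, ← mul_assoc, h.hJ.sq, one_mul]
  have ge : t * u * e * (t * u)⁻¹ = z * e := by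
    calc _ = t * (u * e * u⁻¹) * t⁻¹ := by group
      _ = _ := by rw [ue, te]
  have hM : Ic e cj(t * u, J) := gz ▸ h.hJ.conj (t * u)
  have key : ∀ y ∈ cj(t * u, J), y ∈ 𝐳[z] → y * y ≠ e := by
    rintro _ ⟨y, hy, rfl⟩ k1 k2
    change t * u * y * (t * u)⁻¹ ∈ _ at k1
    have k4 : t * u * y * (t * u)⁻¹ ∈ 𝐳[t * u * e * (t * u)⁻¹] := by
      rw [ge]
      exact mz_symm (mul_mem (mz_symm k1) (mz_symm (hM.le (conj_mem_cj _ hy))))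
    rw [centralizer_singleton_conj, conj_mem_cj_iff] at k4
    have y2 : y * y = z := (MulAut.conj (t * u)).injective (by rw [map_mul]; exact k2.trans gz.symm)
    obtain ⟨l, -, hl⟩ := exists_conj_mem (PLocal.CP.isSyl_inf_of_snIn h.r (h.hJ.cp.sn.inf_inf _))
      (t := y) ⟨hy, k4⟩ (k := 2) (by rw [show 2 ^ 2 = 4 from rfl, ← ord4 h.hJ y2, pow_orderOf_eq_one])
    have := hB _ ⟨hl.1, hl.2.1⟩
    rw [conj_mul, conj_eq_one_iff, y2] at this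
    exact h.hJ.ne this
  by_cases e1 : K = cj(t * u, J)
  · exact key w (e1 ▸ hw.2) (h.r.le hw.1).1 we
  by_cases e2 : cj(s, K) = cj(t * u, J)
  · exact key _ (e2 ▸ conj_mem_cj s hw.2) (h.r.le (cjS sR hw.1)).1 (by rw [conj_mul, we, h.ce sR])
  obtain ⟨x₁, hx₁⟩ := hM.qd (hM.cp.syl h.s')
  obtain ⟨y, hy, y2⟩ := hx₁.o4
  exact key y (hx₁.le hy).2 (mz.2 (comm_of h.s'.pgrp (h.rs' h.zR) (k3 ▸ mul_mem
    (hM.cp.le_Cm (h.hK.cp.conj' (h.r.le sR).2) e2 (conj_mem_cj s hw.2))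
    (inv_mem (hM.cp.le_Cm h.hK.cp e1 hw.2))) (hx₁.le hy).1 (hx₁.le hy).2).symm) y2

theorem lemD (h : Cf z e J K R S S') (hu : u ∈ S ⊓ J) (ue : u * e * u⁻¹ = z * e) (hw : w ∈ R ⊓ K)
    (w2 : w * w = e) (hw' : w ∉ 𝐍[J]) (ht : t ∈ R) (ht' : t ∉ 𝐍[K]) :
    ∃ m ∈ S' ⊓ Cm e K, z = w⁻¹ * m ∧ (m = t * w * t⁻¹ ∨ m = e * (t * w * t⁻¹)) := by
  obtain ⟨sR, -, k3, sK⟩ := h.sig hu ue hw w2 hw'
  rw [← inv_mem_iff] at sR
  generalize (u * (w * u * w⁻¹))⁻¹ = s at *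
  have wP := h.symm.T hw
  have m1 := h.hK.cp.cjm (h.r.le sR).2 sK hw.2
  have m2 := h.hK.cp.cjm (h.r.le ht).2 ht' hw.2
  have c1 := h.hK.cp.cc h.s' (h.rs' sR) sK wP wP
  have c2 := h.hK.cp.cc h.s' (h.rs' ht) ht' wP wP
  have k4 : s * w * s⁻¹ * w⁻¹ = t * s * w * (t * s)⁻¹ * (t * w * t⁻¹)⁻¹ := by
    rw [k3, ← h.cz ht, ← k3]; group
  refine ⟨_, ⟨h.rs' (cjS sR hw.1), m1⟩, by rw [← k3, c1.inv_right.eq], ?_⟩
  by_cases k : t * s ∈ 𝐍[K]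
  · have k5 : s * w * s⁻¹ * (t * w * t⁻¹) = t * s * w * (t * s)⁻¹ * w := by
      calc _ = s * w * s⁻¹ * w⁻¹ * (w * (t * w * t⁻¹)) := by group
        _ = _ := by rw [k4, ← c2.eq]; group
    have k6 := mul_mem (conj_mem_of_mem_normalizer k hw.2) hw.2
    rw [← k5] at k6
    have i2 : (t * w * t⁻¹)⁻¹ = e * (t * w * t⁻¹) :=
      inv_eq_of_sq h.hK.sq (by rw [conj_mul, w2, h.ce ht])
    rcases h.hK.uq _ k6 (h.hK.sq_Cm (T2.of h.r.pgrp (mul_mem (cjS sR hw.1) (cjS ht hw.1))) k6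
      (mul_mem m1 m2)) with k7 | k7
    · exact Or.inr (by rw [← i2, ← mul_eq_one_iff_eq_inv, k7])
    · exact Or.inl (by rw [eq_mul_inv_of_mul_eq k7, i2, ← mul_assoc, h.hK.sq, one_mul])
  · refine (h.hK.not_Cm hw.2 w2 ?_).elim
    have := mul_mem (inv_mem m1) (mul_mem (h.hK.cp.cjm (h.r.le (mul_mem ht sR)).2 k hw.2) (inv_mem m2))
    rwa [← k4, inv_mul_cancel_left, inv_mem_iff] at this

theorem a2 (h : Cf z e J K R S S') (ht : t ∈ R ⊓ J) (t2 : t * t = z) (tK : t ∉ 𝐍[K])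
    (hw : w ∈ R ⊓ K) (hw' : w ∉ 𝐍[J]) (hz : z ∉ Cm e K) : False := by
  have eR := h.symm.zR
  have he : e ∉ Cm z J := fun k => tK (h.hK.cp.LL_le
    (cen h.hJ.t2 h.hJ.cp k h.hK.t2 ht.2 (h.r.le ht.1).2 (T2.of h.r.pgrp ht.1)))
  have w2 := h.symm.lemG hw hw' ht tK
  obtain ⟨u, hu, ue⟩ := h.hJ.ng h.s.pgrp (h.rs eR) h.hK.sq h.eJ fun k =>
    he (h.hJ.zst h.eJ h.hK.sq (h.hJ.cp.syl h.s) fun q hq => mz.1 (k hq))
  obtain ⟨v, hv, vz⟩ := h.hK.ng h.s'.pgrp (h.rs' h.zR) h.hJ.sq h.zK fun k =>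
    hz (h.hK.zst h.zK h.hJ.sq (h.hK.cp.syl h.s') fun q hq => mz.1 (k hq))
  have wP := h.symm.T hw
  have tS := h.rs' ht.1
  have c2 := h.hK.cp.cc h.s' tS tK wP wP
  have c3 := h.hJ.cp.cc h.s (h.rs hw.1) hw' (h.T ht) (h.T ht)
  have iw := inv_eq_of_sq h.hK.sq w2
  have ez := mz.1 (h.r.le eR).1
  have ew := mz.1 (h.r.le hw.1).2
  obtain ⟨m, -, k1, k2⟩ := h.lemD hu ue hw w2 hw' ht.1 tK
  obtain ⟨m', hm', k3, k4⟩ := h.symm.lemD hv vz ht t2 tK hw.1 hw'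
  have zw : z = w * (t * w * t⁻¹) := by
    rcases k2 with rfl | rfl
    · exfalso
      have k5 : t⁻¹ * (w * t * w⁻¹) = z := by
        rw [← h.hJ.inv, ← c3.inv_right.eq, k1, ← c2.inv_right.eq]; group
      rcases k4 with rfl | rfl
      · exact h.ne (k3.trans k5).symm
      · refine h.hK.ne ?_
        rw [k3, ← mul_assoc, mz.1 (h.r.le (inv_mem ht.1)).1, mul_assoc, k5, h.hJ.sq]
    · rw [k1, iw, ← ew, ← mul_assoc, mul_assoc w, h.hK.sq, mul_one]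
  have eL : e ∈ LL z := by
    have k5 := h.hJ.cp.le_LL
    have k6 := (h.hJ.cp.conj' (h.r.le hw.1).1).le_LL (conj_mem_cj w ht.2)
    rcases k4 with rfl | rfl <;> rw [k3]
    exacts [mul_mem (inv_mem (k5 ht.2)) k6, mul_mem (inv_mem (k5 ht.2)) (mul_mem (k5 h.hJ.mem) k6)]
  obtain ⟨x, hx⟩ := h.hK.qd (h.hK.cp.syl h.s')
  have hP : cj(t, S' ⊓ K) ≤ S' ⊓ Cm e K := cj_le_iff_forall.2 fun p hp =>
    ⟨cjS tS hp.1, h.hK.cp.cjm (h.r.le ht.1).2 tK hp.2⟩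
  have x4 : orderOf x = 4 := by
    obtain ⟨c, hc, oc⟩ := h.hK.trc h.s' hx wP w2 (hP (conj_mem_cj t wP)) (zw ▸ h.symm.r)
    rw [← oc]
    refine ord4 h.hK (h.symm.lemG hc (fun k => ?_) ht tK)
    obtain ⟨f, hf, f2⟩ := h.hK.o4 (T2.of h.r.pgrp hc.1) hc.2 fun k => by
      have := Nat.le_of_dvd two_pos (orderOf_dvd_of_pow_eq_one (x := c) (n := 2) (by rwa [sq]))
      have := Nat.le_of_dvd (orderOf_pos x) hx.four
      omega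
    exact h.symm.a1 (zpowers_le.2 hc hf) f2 (zpowers_le.2 k hf) ht tK he
  obtain ⟨a, ha, aw⟩ := hx.invw wP w2
  have an : a ∉ zpowers w := fun k => h.hK.ne (by
    rwa [comm_zpowers k (mem_zpowers w), mul_inv_cancel_right, right_eq_mul] at aw)
  have a2 : a * a = e := by
    have := hx.powx ha
    rw [x4, show 4 = 2 * 2 from rfl, pow_mul, sq, sq] at this
    refine (h.hK.uq _ (mul_mem ha.2 ha.2) this).resolve_left fun k => an ?_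
    rcases h.hK.uq a ha.2 k with rfl | rfl
    exacts [one_mem _, w2 ▸ mul_mem (mem_zpowers w) (mem_zpowers w)]
  obtain ⟨g, hg, ga⟩ := h.hK.tr h.s' hP (zpowers_le.2 ha) (by
    rw [hx.card, Nat.card_zpowers, x4, ord4 h.hK a2]) (a2 ▸ mul_mem (mem_zpowers a) (mem_zpowers a))
    wP w2
  have b2 : g * w * g⁻¹ * (g * w * g⁻¹) = e := by rw [conj_mul, w2, mz_conj (h.hK.le hg.1)]
  have bP := zpowers_le.2 ha ga
  have ab : a ∈ zpowers (g * w * g⁻¹) := by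
    by_contra k
    have := hx.n4 x4 bP b2 (ord4 h.hK b2) ha k
    rw [comm_zpowers (mem_zpowers a) ga, mul_inv_cancel_right, right_eq_mul] at this
    exact h.hK.ne this
  have zc : cj(g, zpowers w) = zpowers (g * w * g⁻¹) := MonoidHom.map_zpowers ..
  have PL : S' ⊓ K ≤ K ⊓ 𝐂[cj(t, S' ⊓ K)] := le_inf inf_le_right fun q hq r hr =>
    comm_of h.s'.pgrp (hP hr).1 (hP hr).2 hq.1 hq.2
  obtain ⟨k, hk, kP⟩ := ((h.hK.cp.syl h.s').mono (le_inf PL (hx.n4' x4 bP b2 (ord4 h.hK b2)))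
    (inf_le_left.trans inf_le_left)).exists_cj_le (isPGroup_cj g hx.pg) (le_inf (cj_le_of_mem PL hg)
      (by rw [← zc, normalizer_cj]; exact cj_mono g (hx.n4' x4 wP w2 (ord4 h.hK w2))))
  rw [← cj_mul] at kP
  have sN := mem_normalizer_of_cj_le kP
  have sL := mul_mem hk.1 hg
  have sw : k * g ∉ 𝐍[zpowers w] := fun k1 => an (by
    rwa [← cj_of_mem_normalizer k1, cj_mul, zc, cj_of_mem_normalizer hk.2])
  generalize k * g = s at *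
  have key : ∀ s ∈ 𝐍[S' ⊓ K], s ∈ K → s ∉ 𝐍[zpowers w] →
      s * w * s⁻¹ * (t * (s * w * s⁻¹) * t⁻¹) ∈ R ∧
      t * (s * w * s⁻¹ * (t * (s * w * s⁻¹) * t⁻¹)) * t⁻¹ =
        e * (s * w * s⁻¹ * (t * (s * w * s⁻¹) * t⁻¹)) ∧
      s * w * s⁻¹ * (t * (s * w * s⁻¹) * t⁻¹) ∉ 𝐍[J] := fun s h1 h2 h3 => by
    have bP := conj_mem_of_mem_normalizer h1 wP
    have k5 := hx.n4 x4 wP w2 (ord4 h.hK w2) bP fun k => h3 (mem_normalizer_of_cj_le (by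
      rw [MonoidHom.map_zpowers]; exact zpowers_le.2 k))
    obtain ⟨q1, q2, -, q3⟩ := h.symm.sig bP (by
      rw [zw, ← conj_mul, k5, conj_eq_of_comm (h.hK.cp.cc h.s' tS tK wP bP), mul_assoc]) ht t2 tK
    exact ⟨q1, q2, by rwa [inv_mem_iff] at q3⟩
  have s1 : ∀ p ∈ S' ⊓ K, s * (t * p * t⁻¹) * s⁻¹ = t * p * t⁻¹ := fun p hp => by
    rw [← sL.2 _ (conj_mem_cj t hp), mul_inv_cancel_right]
  have s2 : ∀ p ∈ S' ⊓ K, t * s * t⁻¹ * p * (t * s * t⁻¹)⁻¹ = p := fun p hp => by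
    have := s1 _ (inv_conj_mem_of_mem_normalizer (le_normalizer_inf (L := zpowers z)
      ((zpowers_le.2 (h.rs' h.zR)).trans le_normalizer) (zpowers_le.2 h.zK) (mem_zpowers z)) hp)
    rw [← t2] at this
    calc _ = t * (s * (t * ((t * t)⁻¹ * p * (t * t)) * t⁻¹) * s⁻¹) * t⁻¹ := by group
      _ = p := by rw [this]; group
  obtain ⟨q1, q2, q3⟩ := key s sN sL.1 sw
  have e1 : s * (t * s * t⁻¹) * z * (s * (t * s * t⁻¹))⁻¹ =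
      s * w * s⁻¹ * (t * (s * w * s⁻¹) * t⁻¹) := by
    rw [← s1 _ (conj_mem_of_mem_normalizer sN wP), zw]
    calc _ = s * (t * s * t⁻¹ * w * (t * s * t⁻¹)⁻¹) * s⁻¹ *
          (s * (t * (s * w * s⁻¹) * t⁻¹) * s⁻¹) := by group
      _ = _ := by rw [s2 w wP]
  have e2 : (s * (t * s * t⁻¹))⁻¹ * z * (s * (t * s * t⁻¹)) =
      s⁻¹ * w * s⁻¹⁻¹ * (t * (s⁻¹ * w * s⁻¹⁻¹) * t⁻¹) := by
    have k5 := s2 _ (conj_mem_of_mem_normalizer (inv_mem sN) wP)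
    calc _ = (t * s * t⁻¹)⁻¹ * s⁻¹ * (w * (s * (t * w * t⁻¹) * s⁻¹)) * s * (t * s * t⁻¹) := by
          rw [s1 w wP, ← zw]; group
      _ = (t * s * t⁻¹)⁻¹ * (s⁻¹ * w * s⁻¹⁻¹) * (t * s * t⁻¹) * (t * (s⁻¹ * w * s⁻¹⁻¹) * t⁻¹) := by
          group
      _ = _ := by
          congr 1
          rw [mul_assoc, inv_mul_eq_iff_eq_mul, mul_inv_eq_iff_eq_mul.1 k5]
  have he' : s * (t * s * t⁻¹) ∈ 𝐳[e] :=
    mul_mem (h.hK.le sL.1) (cjS (h.r.le ht.1).2 (h.hK.le sL.1))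
  have l1 := LL_conj eL (s * (t * s * t⁻¹))
  have cp := h.hJ.cp.conj (s * (t * s * t⁻¹))
  have x2 : s * (t * s * t⁻¹) * z * (s * (t * s * t⁻¹))⁻¹ *
      (s * (t * s * t⁻¹) * z * (s * (t * s * t⁻¹))⁻¹) = 1 := by rw [conj_mul, h.hJ.sq]; group
  rw [mz_conj he'] at l1
  rw [e1] at l1 cp x2
  generalize s * w * s⁻¹ * (t * (s * w * s⁻¹) * t⁻¹) = y at *
  have e3 : t * y * (t * y) = e * z := by
    calc _ = t * y * t⁻¹ * (t * t * y) := by group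
      _ = e * z := by rw [q2, t2, ← mz.1 (h.r.le q1).1, mul_assoc, ← mul_assoc y, x2, one_mul]
  have l2 := diag h.hJ.t2 h.hJ.cp (h.r.le q1).1 x2 q3 ht.2 (by
    rw [e3]; exact mul_mem (mz_symm (h.r.le q1).2) (mz_symm (h.r.le q1).1))
    (e3 ▸ T2.of h.r.pgrp (mul_mem eR h.zR))
  rw [e3, mul_mem_cancel_left l1] at l2
  have := cp.LL_le l2
  rw [normalizer_cj, mem_cj, e2] at this
  exact (key s⁻¹ (inv_mem sN) (inv_mem sL.1) (by rwa [inv_mem_iff])).2.2 this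

end Cf

end Cfsg.Agent.IQ
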