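import Cfsg.Agent.IQ.Quat

/-! Intrinsic 2-components of 2-rank one (for S1315). -/

set_option autoImplicit false
set_option linter.unusedSectionVars false

namespace Cfsg.Agent.IQ

open Cfsg Subgroup Cfsg.Agent.PLocal.Amb Cfsg.Agent.Lyons

variable {G : Type*} [Group G] [Finite G] {a b c e m t u w x y z g : G}
  {M N Q R S O X : Subgroup G}

/-- `M` is a 2-component of `C(a)` with unique involution `a` -/
structure Ic (a : G) (M : Subgroup G) : Prop where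
  cp : Cp a M
  mem : a ∈ M
  sq : a * a = 1
  ne : a ≠ 1
  uq : ∀ t ∈ M, t * t = 1 → t = 1 ∨ t = a

theorem mem_of_cent (hS : IsSyl 2 S N) (h2 : T2 a) (ha : a ∈ N) (h : N ≤ 𝐳[a]) : a ∈ S :=
  hS.le_of_normalizes (isPGroup_zpowers h2) (zpowers_le.2 ha)
    (zpowers_le.2 (centralizer_le_normalizer' S fun s hs => mz.1 (h (hS.le hs)))) (mem_zpowers a)

theorem LL_conj (h : x ∈ LL a) (g : G) : g * x * g⁻¹ ∈ LL (g * a * g⁻¹) :=
  cj_le_iff_forall.1 (cj_le_iff.2 (PLocal.map_pLayer_le_iff.2 fun _ h1 h2 =>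
    cj_le_iff.1 (Cp.le_LL (Cp.conj ⟨h1, h2⟩ g)))) x h

theorem Cm_norm (hg : g ∈ 𝐳[a]) (hn : g ∈ 𝐍[M]) : g ∈ 𝐍[Cm a M] :=
  mem_normalizer_of_cj_le (cj_le_iff_forall.2 fun _ hx => Cm_conj' hx hg hn)

theorem Cp.decomp (h : Cp a M) (hS : IsSyl 2 S 𝐳[a]) (hy : y ∈ S) (hl : y ∈ LL a) :
    ∃ q ∈ S ⊓ M, ∃ m ∈ S ⊓ Cm a M, y = q * m := by
  have h1 : Grp.SnIn (LL a ⊓ Cm a M) 𝐳[a] := .step inf_le_left
    (le_normalizer_inf le_normalizer fun g hg => Cm_norm (IQ.LL_le a hg) (h.LL_le hg))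
    (.of_le_normalizer (IQ.LL_le a) (LL_norm a))
  have h2 := (PLocal.CP.inf_sup_of_snIn hS h.sn h1).le ⟨hy, h.LL_le_sup hl⟩
  obtain ⟨q, hq, m, hm, e⟩ := (mem_sup_of_le_normalizer_left (le_normalizer_inf
    (inf_le_left.trans le_normalizer) (inf_le_right.trans (inf_le_right.trans h.Cm_le)))).1 h2
  exact ⟨q, hq, m, ⟨hm.1, hm.2.2⟩, e⟩

namespace Ic

theorem t2 (h : Ic a M) : T2 a := T2.sq h.sq

theorem le (h : Ic a M) : M ≤ 𝐳[a] := h.cp.1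

theorem inv (h : Ic a M) : a⁻¹ = a := inv_eq_of_mul_eq_one_right h.sq

theorem conj (h : Ic a M) (g : G) : Ic (g * a * g⁻¹) cj(g, M) :=
  ⟨h.cp.conj g, conj_mem_cj g h.mem, by rw [conj_mul, h.sq]; simp, by simpa using h.ne,
    fun _ ⟨t, ht, e⟩ h1 => by
      subst e
      rcases h.uq t ht ((MulAut.conj g).injective (by rw [map_mul, map_one]; exact h1)) with e | e
      exacts [Or.inl (by simp [e]), Or.inr (by rw [e]; rfl)]⟩

theorem conj' (h : Ic a M) (hg : g ∈ 𝐳[a]) : Ic a cj(g, M) := by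
  have := h.conj g
  rwa [mz_conj hg] at this

theorem aCm (h : Ic a M) : a ∈ Cm a M := mem_Cm_of_cent (mz.2 rfl) fun _ hx => mz.1 (h.le hx)

theorem norm_le (h : Ic a M) (hg : g ∈ 𝐍[M]) : g ∈ 𝐳[a] :=
  mz.2 (mul_inv_eq_iff_eq_mul.1 ((h.uq _ (conj_mem_of_mem_normalizer hg h.mem)
    (by rw [conj_mul, h.sq]; simp)).resolve_left (by simpa using h.ne)))

theorem qd (h : Ic a M) (hQ : IsSyl 2 Q M) : ∃ x, QD Q a x := by
  refine exists_qd hQ.pgrp h.sq h.ne (fun t ht => h.uq t (hQ.le ht)) fun hc => ?_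
  obtain ⟨P, rfl⟩ := hQ.exists_sylow_map
  obtain ⟨H, hH⟩ := Inv.exists_index_two_of_cyclic_sylow (even_iff_two_dvd.2 (by
    rw [← orderOf_eq_prime (p := 2) (x := a) (by rw [_root_.sq, h.sq]) h.ne]
    exact orderOf_dvd_natCard M h.mem)) P
    (isCyclic_of_surjective _ (equivMapOfInjective _ _ M.subtype_injective).symm.surjective)
  have := sq_gen (X := H.map M.subtype) h.cp.perf fun g hg =>
    ⟨_, mul_self_mem_of_index_two hH ⟨g, hg⟩, rfl⟩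
  rw [show H = ⊤ from top_le_iff.1 fun g _ => mem_map_subtype.1 (this g.2)] at hH
  simp at hH

theorem sq_Cm (h : Ic a M) (hy : T2 y) (h1 : y ∈ M) (h2 : y ∈ Cm a M) : y * y = 1 := by
  obtain ⟨Q, hQ, hy'⟩ := exists_isSyl_ge (isPGroup_zpowers hy) (zpowers_le.2 h1)
  obtain ⟨x, hx⟩ := h.qd hQ
  exact hx.cent (hy' (mem_zpowers y)) fun q hq =>
    (comm_of hQ.pgrp (hy' (mem_zpowers y)) h2 hq (hQ.le hq)).symm

theorem not_Cm (h : Ic a M) (h1 : y ∈ M) (h2 : y * y = a) : y ∉ Cm a M := fun k =>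
  h.ne (h2 ▸ h.sq_Cm ⟨2, by rw [show 2 ^ 2 = 2 * 2 from rfl, pow_mul, _root_.sq, _root_.sq, h2, h.sq]⟩
    h1 k)

theorem eq_of (h : Ic a M) (hN : Cp a N) (hy : T2 y) (h1 : y ∈ M) (h2 : y ∈ N) (h3 : y * y ≠ 1) :
    N = M := by
  by_contra k
  exact h3 (h.sq_Cm hy h1 (h.cp.le_Cm hN k h2))

theorem mem_zp (h : Ic a M) (hy : T2 y) (h1 : y ∈ M) (h2 : y ≠ 1) : ∃ k : ℕ, y ^ 2 ^ k = a := by
  obtain ⟨k, h3, h4⟩ := pow2 hy h2
  exact ⟨k, (h.uq _ (pow_mem h1 _) h4).resolve_left h3⟩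

theorem o4 (h : Ic a M) (hy : T2 y) (h1 : y ∈ M) (h2 : y * y ≠ 1) : ∃ t ∈ zpowers y, t * t = a := by
  obtain ⟨t, ht, h3, h4⟩ := pow4 hy h2
  exact ⟨t, ht, (h.uq _ (zpowers_le.2 h1 (mul_mem ht ht)) h4).resolve_left h3⟩

/-- the `Z*`-theorem -/
theorem zst (h : Ic a M) (hn : b ∈ 𝐍[M]) (b2 : b * b = 1) (hQ : IsSyl 2 Q M) (hb : b ∈ 𝐂[Q]) :
    b ∈ Cm a M := by
  have ba := h.norm_le hn
  have hX : M ⊔ zpowers b ≤ 𝐍[M] := sup_le le_normalizer (zpowers_le.2 hn)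
  have bX : b ∈ M ⊔ zpowers b := mem_sup_right (mem_zpowers b)
  have hi : IsIsolated (⟨b, bX⟩ : ↥(M ⊔ zpowers b)) := fun g hg => by
    obtain ⟨m, hm, s, hs, e⟩ := (mem_sup_of_le_normalizer_left (zpowers_le.2 hn)).1 g.2
    have e1 : (g : G) * b * (g : G)⁻¹ = m * b * m⁻¹ := by
      calc _ = m * (s * b * s⁻¹) * m⁻¹ := by rw [e]; group
        _ = _ := by rw [mz_conj (mz.2 (comm_zpowers hs (mem_zpowers b)))]
    have c1 : b * (m * b * m⁻¹) = m * b * m⁻¹ * b := e1 ▸ congrArg Subtype.val hg.eq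
    refine Subtype.ext (e1.trans ?_)
    rcases h.uq (m * (b * m⁻¹ * b⁻¹)) (mul_mem hm (conj_mem_of_mem_normalizer hn (inv_mem hm))) (by
      calc _ = m * b * m⁻¹ * (b⁻¹ * (m * b * m⁻¹) * b) * (b * b)⁻¹ := by group
        _ = m * (b * b) * m⁻¹ * (b * b)⁻¹ := by rw [mul_assoc b⁻¹, ← c1]; group
        _ = 1 := by rw [b2]; group) with k | k
    · rwa [← mul_assoc, ← mul_assoc, mul_inv_eq_one] at k
    rw [← mul_assoc, ← mul_assoc, mul_inv_eq_iff_eq_mul] at k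
    have hK : m ∈ 𝐍[M ⊓ 𝐳[b]] := mem_normalizer_of_cj_le (le_cj_iff.1 fun y hy => ?_ ) |> inv_mem_iff.1
    · refine mz_conj (mem_of_pow_mem (hQ.mono (le_inf hQ.le ?_) inf_le_left)
        (le_inf hQ.le fun q hq => mz.2 (hb q hq)) inf_le_right ⟨hm, hK⟩ (k := 1) ⟨pow_mem hm _, ?_⟩).2
      · exact (le_inf hQ.le fun q hq => mz.2 (hb q hq)).trans le_normalizer
      · refine mz.2 (mul_inv_eq_iff_eq_mul.1 ?_)
        calc _ = m * (m * b * m⁻¹) * m⁻¹ := by rw [pow_one, _root_.sq]; group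
          _ = m * a * m⁻¹ * (m * b * m⁻¹) := by rw [conj_mul, ← k]
          _ = b := by rw [mz_conj (h.le hm), k, ← mul_assoc, h.sq, one_mul]
    · rw [cj_inf, cj_of_mem hm, ← centralizer_singleton_conj, k]
      exact ⟨hy.1, mz.2 (by rw [← mul_assoc, mz.1 (h.le hy.1), mul_assoc, mz.1 hy.2, mul_assoc])⟩
  refine ⟨ba, fun m hm => ?_⟩
  obtain ⟨o, ho, c, hc, e⟩ := Inv.exists_oddCore_mul_of_isIsolated hi
    ⟨1, Subtype.ext (by simpa [_root_.sq] using b2)⟩ ⟨m, mem_sup_left hm⟩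
  have ho' : (o : G) ∈ oc (M ⊔ zpowers b) := ⟨o, ho, rfl⟩
  refine PLocal.le_map_pPrimeCore_of_snIn (K := oc (M ⊔ zpowers b) ⊓ M) (.step inf_le_right
    (le_normalizer_inf (le_sup_left.trans (le_norm_oc _)) le_normalizer) h.cp.sn)
    (Nat.coprime_two_right.2 (odd_of_le inf_le_left (odd_oc _)))
    (mem_inf.2 ⟨?_, mul_mem (conj_mem_of_mem_normalizer hn hm) (inv_mem hm)⟩)
  have e1 : m = o * c := congrArg Subtype.val e
  have e2 : (c : G) * b = b * c := congrArg Subtype.val (mem_centralizer_singleton_iff.1 hc)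
  convert mul_mem (conj_mem_of_mem_normalizer (le_norm_oc _ bX) ho') (inv_mem ho') using 1
  calc _ = b * o * (c * b⁻¹ * (c : G)⁻¹) * (o : G)⁻¹ := by rw [e1]; group
    _ = _ := by rw [← conj_inv, mz_conj (mz.2 e2)]

/-- Thompson transfer in the centralizer of a 2-group acting trivially modulo the core -/
theorem tr (h : Ic a M) (hS : IsSyl 2 S 𝐳[a]) (hR : R ≤ S ⊓ Cm a M) (hX : X ≤ S ⊓ M)
    (hc : Nat.card ↥(S ⊓ M) = 2 * Nat.card X) (ha : a ∈ X) (ht : t ∈ S ⊓ M) (t2 : t * t = a) :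
    ∃ g ∈ M ⊓ 𝐂[R], g * t * g⁻¹ ∈ X := by
  by_contra! k
  have hQ : IsSyl 2 (S ⊓ M) (M ⊓ 𝐂[R]) := (h.cp.syl hS).mono
    (le_inf inf_le_right fun q hq r hr => comm_of hS.pgrp (hR hr).1 (hR hr).2 hq.1 hq.2) inf_le_left
  obtain ⟨n, hn⟩ := (IsPGroup.iff_orderOf.1 hQ.pgrp) ⟨t, ht⟩
  obtain ⟨N, -, h2, h3⟩ := Transfer.thompson_transfer_gen (P := (S ⊓ M).subgroupOf (M ⊓ 𝐂[R]))
    (Q := X.subgroupOf (M ⊓ 𝐂[R])) (Nat.odd_iff.2 (Nat.two_dvd_ne_zero.1 hQ.not_dvd_relIndex))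
    (by rw [relIndex_subgroupOf hQ.le, idx_of_card hX hc]) (u := ⟨t, hQ.le ht⟩)
    ⟨n, by rw [← hn, ← orderOf_coe, ← orderOf_coe]⟩ (fun g => k g g.2) (by
      rintro g _ ⟨l, rfl⟩ -
      change (g : G) * t ^ (l + l) * (g : G)⁻¹ ∈ X
      rw [← two_mul, pow_mul, _root_.sq, t2, ← conj_pow, mz_conj (h.le g.2.1)]
      exact pow_mem ha l)
  have hO : Odd (Nat.card ↥(oc 𝐳[a] ⊓ M)) := odd_of_le inf_le_left (odd_oc _)
  have hM : M ≤ 𝐍[oc 𝐳[a] ⊓ M] := le_normalizer_inf (h.le.trans (le_norm_oc _)) le_normalizer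
  have hN : N.map (M ⊓ 𝐂[R]).subtype ≤ M := (map_subtype_le _).trans inf_le_left
  have h4 := sq_gen (X := N.map (M ⊓ 𝐂[R]).subtype ⊔ oc 𝐳[a] ⊓ M) h.cp.perf (fun g hg => by
    obtain ⟨o, ho, e⟩ := cov hO (hS.pgrp.to_le (hR.trans inf_le_left)) (g := g) (le_normalizer_inf
      (fun r hr => le_norm_oc _ (hR hr).2.1) fun r hr => h.cp.Cm_le (hR hr).2) fun r hr => ⟨by
        simpa [mul_assoc] using inv_mem ((hR hr).2.2 g hg), by
        simpa [mul_assoc] using mul_mem hg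
          (conj_mem_of_mem_normalizer (h.cp.Cm_le (hR hr).2) (inv_mem hg))⟩
    have := mul_mem (mul_mem (mem_sup_right (inv_mem ho)) (mem_sup_right
      (conj_mem_of_mem_normalizer (hM (mul_mem ho.2 hg)) (inv_mem ho))))
      (mem_sup_left (S := N.map (M ⊓ 𝐂[R]).subtype)
        ⟨_, mul_self_mem_of_index_two h2 ⟨o * g, mul_mem ho.2 hg, e⟩, rfl⟩)
    convert this using 1
    simp [mul_assoc]) ht.2
  obtain ⟨_, ⟨l, hl, rfl⟩, o, ho, e⟩ := (mem_sup_of_le_normalizer_right (hN.trans hM)).1 h4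
  have e1 : o = (l⁻¹ * ⟨t, hQ.le ht⟩ : ↥(M ⊓ 𝐂[R])) := by simp [e]
  refine h3 ((N.mul_mem_cancel_left (inv_mem hl)).1 (mem_of_odd_of_pow (k := 1) ?_
    (sq_mem_of_index_two h2 _)))
  rw [← orderOf_coe, ← e1]
  exact odd_orderOf hO ho

/-- an element of order as large as possible centralizing `t * m` -/
theorem trc (h : Ic a M) (hS : IsSyl 2 S 𝐳[a]) (hx : QD (S ⊓ M) a x) (ht : t ∈ S ⊓ M)
    (t2 : t * t = a) (hm : m ∈ S ⊓ Cm a M) (hR : IsSyl 2 R (𝐳[a] ⊓ 𝐳[t * m])) :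
    ∃ c ∈ R ⊓ M, orderOf c = orderOf x := by
  obtain ⟨g, hg, e⟩ := h.tr hS (zpowers_le.2 hm) hx.le (by rw [hx.card, Nat.card_zpowers]) hx.zx ht t2
  have h1 : g⁻¹ * x * g⁻¹⁻¹ ∈ M ⊓ 𝐳[t * m] := ⟨conj_mem_of_mem_normalizer (le_normalizer (inv_mem hg.1))
    hx.xQ.2, by
      have : t * m = g⁻¹ * (g * t * g⁻¹ * m) * g⁻¹⁻¹ := by
        rw [inv_inv, mul_assoc g⁻¹, mul_assoc _ m, hg.2 m (mem_zpowers m)]; group
      rw [this, centralizer_singleton_conj]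
      refine conj_mem_cj _ (mz.2 ?_)
      rw [← mul_assoc, comm_zpowers (mem_zpowers x) e, mul_assoc,
        ← comm_of hS.pgrp hm.1 hm.2 hx.xQ.1 hx.xQ.2, ← mul_assoc]⟩
  obtain ⟨k, hk⟩ := (T2.of hx.pg hx.xQ).conj g⁻¹
  obtain ⟨l, -, hl⟩ := exists_conj_mem (PLocal.CP.isSyl_inf_of_snIn hR (h.cp.sn.inf_inf _)) h1 hk
  exact ⟨_, ⟨hl.1, hl.2.1⟩, by rw [orderOf_conj', orderOf_conj']⟩

/-- normalizers grow -/
theorem ng (h : Ic z M) (hS : IsPGroup 2 S) (he : e ∈ S) (e2 : e * e = 1) (hn : e ∈ 𝐍[M])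
    (hq : ¬ S ⊓ M ≤ 𝐳[e]) : ∃ u ∈ S ⊓ M, u * e * u⁻¹ = z * e := by
  have h0 : zpowers e ≤ 𝐍[S ⊓ M] := zpowers_le.2 (le_normalizer_inf (L := ⊤ ⊓ zpowers e)
    (inf_le_right.trans ((zpowers_le.2 he).trans le_normalizer)) (inf_le_right.trans (zpowers_le.2 hn))
    ⟨trivial, mem_zpowers e⟩)
  have eR : zpowers e ≤ (S ⊓ M ⊔ zpowers e) ⊓ 𝐳[e] := le_inf le_sup_right (zpowers_le.2 (mz.2 rfl))
  obtain ⟨n, hn1, hn2⟩ := SetLike.exists_of_lt (lt_inf_normalizer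
    (hS.to_le (sup_le inf_le_left (zpowers_le.2 he))) (R := (S ⊓ M ⊔ zpowers e) ⊓ 𝐳[e])
    (inf_lt_left.2 fun k => hq (le_sup_left.trans k)))
  obtain ⟨q, hq, s, hs, rfl⟩ := (mem_sup_of_le_normalizer_left h0).1 hn1.1
  have h1 := mz.1 (conj_mem_of_mem_normalizer
    ((mul_mem_cancel_right (le_normalizer (eR hs))).1 hn1.2) (eR (mem_zpowers e))).2
  rcases h.uq (q * (e * q⁻¹ * e⁻¹)) (mul_mem hq.2 (conj_mem_of_mem_normalizer hn (inv_mem hq.2))) (by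
    calc _ = q * e * q⁻¹ * (e⁻¹ * (q * e * q⁻¹ * e)) * (e * e)⁻¹ := by group
      _ = q * (e * e) * q⁻¹ * (e * e)⁻¹ := by rw [h1]; group
      _ = 1 := by rw [e2]; group) with k | k <;> rw [← mul_assoc, ← mul_assoc, mul_inv_eq_iff_eq_mul] at k
  · exact (hn2 ⟨hn1.1, mul_mem (mz.2 (by rwa [one_mul, mul_inv_eq_iff_eq_mul] at k)) (eR hs).2⟩).elim
  · exact ⟨q, hq, k⟩

end Ic

end Cfsg.Agent.IQ
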