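import Cfsg.Agent.IQ.Base
import Cfsg.Agent.Inv.RankOne

/-! Elementwise facts on generalized quaternion subgroups (for S1315). -/

set_option autoImplicit false
set_option linter.unusedSectionVars false

namespace Cfsg.Agent.IQ

open Cfsg Subgroup Cfsg.Agent.PLocal.Amb Cfsg.Agent.Lyons

variable {G : Type*} [Group G] [Finite G] {a b c d t w x y z g : G} {M N Q R S O X : Subgroup G}

theorem idx_of_card (h : X ≤ Q) (hc : Nat.card Q = 2 * Nat.card X) : X.relIndex Q = 2 := by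
  have := (X.subgroupOf Q).index_mul_card
  rw [Nat.card_congr (subgroupOfEquivOfLe h).toEquiv, hc] at this
  exact Nat.eq_of_mul_eq_mul_right Nat.card_pos this

theorem idx2 (h : X ≤ Q) (hc : Nat.card Q = 2 * Nat.card X) (ha : a ∈ Q) (hb : b ∈ Q)
    (ha' : a ∉ X) (hb' : b ∉ X) : a * b ∈ X :=
  (mul_mem_iff_of_index_two (H := X.subgroupOf Q) (idx_of_card h hc) (a := ⟨a, ha⟩)
    (b := ⟨b, hb⟩)).2 (iff_of_false ha' hb')

theorem sq_gen (hM : ⁅M, M⁆ = M) (h : ∀ g ∈ M, g * g ∈ X) : M ≤ X := by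
  rw [← hM]
  refine commutator_le.2 fun g hg k hk => ?_
  have := mul_mem (mul_mem (h _ (mul_mem hg hk))
    (h _ (mul_mem (mul_mem (inv_mem hk) (inv_mem hg)) hk))) (h _ (inv_mem hk))
  convert this using 1
  rw [commutatorElement_def]
  group

theorem pow2 (hy : T2 y) (h : y ≠ 1) : ∃ k : ℕ, y ^ 2 ^ k ≠ 1 ∧ y ^ 2 ^ k * y ^ 2 ^ k = 1 := by
  classical
  have h1 := Nat.find_spec hy
  obtain ⟨k, hk⟩ := Nat.exists_eq_succ_of_ne_zero (n := Nat.find hy) fun e => h (by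
    rwa [e, pow_zero, pow_one] at h1)
  refine ⟨k, Nat.find_min hy (by omega), ?_⟩
  rwa [hk, pow_succ, pow_mul, sq] at h1

theorem T2.pow (hy : T2 y) (n : ℕ) : T2 (y ^ n) := by
  obtain ⟨k, hk⟩ := hy
  exact ⟨k, by rw [← pow_mul, mul_comm, pow_mul, hk, one_pow]⟩

theorem T2.conj (hy : T2 y) (g : G) : T2 (g * y * g⁻¹) := by
  obtain ⟨k, hk⟩ := hy
  exact ⟨k, by rw [conj_pow, hk]; simp⟩

theorem pow4 (hy : T2 y) (h : y * y ≠ 1) :
    ∃ t ∈ zpowers y, t * t ≠ 1 ∧ t * t * (t * t) = 1 := by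
  obtain ⟨k, h1, h2⟩ := pow2 (hy.pow 2) (by rwa [sq])
  have e : (y ^ 2) ^ 2 ^ k = y ^ 2 ^ k * y ^ 2 ^ k := by rw [← pow_mul, mul_comm, pow_mul, sq]
  exact ⟨y ^ 2 ^ k, pow_mem (mem_zpowers y) _, e ▸ h1, e ▸ h2⟩

theorem inv_eq_of_sq (hz : z * z = 1) (ht : t * t = z) : t⁻¹ = z * t := by
  subst ht
  rw [inv_eq_iff_mul_eq_one, ← hz]
  simp only [mul_assoc]

theorem orderOf_conj' (g x : G) : orderOf (g * x * g⁻¹) = orderOf x :=
  (MulAut.conj g).orderOf_eq x

theorem conj_zpowers (h : g * x * g⁻¹ = x⁻¹) (hy : y ∈ zpowers x) : g * y * g⁻¹ = y⁻¹ := by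
  obtain ⟨i, rfl⟩ := hy
  simp only [← conj_zpow, h, inv_zpow]

theorem comm_zpowers (hy : y ∈ zpowers x) (hb : b ∈ zpowers x) : y * b = b * y := by
  obtain ⟨i, rfl⟩ := hy
  obtain ⟨k, rfl⟩ := hb
  exact (Commute.zpow_zpow_self _ _ _).eq

/-- a generalized quaternion group with involution `z` and cyclic maximal subgroup `⟨x⟩` -/
structure QD (Q : Subgroup G) (z x : G) : Prop where
  pg : IsPGroup 2 Q
  xQ : x ∈ Q
  zz : z * z = 1
  z1 : z ≠ 1
  x2 : x * x ≠ 1
  uq : ∀ t ∈ Q, t * t = 1 → t = 1 ∨ t = z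
  out : ∀ q ∈ Q, q ∉ zpowers x → q * q = z ∧ q * x * q⁻¹ = x⁻¹
  ex : ∃ v ∈ Q, v ∉ zpowers x
  card : Nat.card Q = 2 * orderOf x

theorem exists_qd (hQ : IsPGroup 2 Q) (zz : z * z = 1) (z1 : z ≠ 1)
    (uq : ∀ t ∈ Q, t * t = 1 → t = 1 ∨ t = z) (hc : ¬ IsCyclic Q) : ∃ x, QD Q z x := by
  have o2 : ∀ t ∈ Q, orderOf t = 2 → t = z := fun t ht h =>
    (uq t ht (by rw [← sq, ← h, pow_orderOf_eq_one])).resolve_left (by rintro rfl; simp at h)
  obtain ⟨n, ⟨e⟩⟩ := (Inv.cyclic_or_quaternion_of_unique_involution' hQ fun t ht u hu h1 h2 =>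
    (o2 t ht h1).trans (o2 u hu h2).symm).resolve_left hc
  set x : Q := e.symm (.a 1) with hx
  have ox : orderOf (x : G) = 2 * 2 ^ (n + 1) := by
    rw [orderOf_coe, hx, MulEquiv.orderOf_eq, QuaternionGroup.orderOf_a_one]
  have hin : ∀ i, ((e.symm (.a i) : Q) : G) ∈ zpowers (x : G) := fun i =>
    ⟨i.val, by simp only [zpow_natCast]; rw [← coe_pow, hx, ← map_pow, QuaternionGroup.a_one_pow]; simp⟩
  refine ⟨x, hQ, x.2, zz, z1, fun h => ?_, uq, fun q hq hn => ?_, ⟨e.symm (.xa 0), Subtype.prop _, ?_⟩, ?_⟩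
  · have := Nat.le_of_dvd two_pos (orderOf_dvd_of_pow_eq_one (x := (x : G)) (n := 2) (by rwa [sq]))
    have := Nat.one_lt_two_pow (n := n + 1) (by omega)
    omega
  · obtain ⟨r, hr⟩ := e.symm.surjective ⟨q, hq⟩
    have hq' : q = e.symm r := by rw [hr]
    rcases r with i | i
    · exact (hn (hq' ▸ hin i)).elim
    have o4 : orderOf q = 4 := by
      rw [hq', orderOf_coe, MulEquiv.orderOf_eq, QuaternionGroup.orderOf_xa]
    refine ⟨o2 _ (mul_mem hq hq) (by rw [← sq, orderOf_pow, o4]; rfl), ?_⟩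
    rw [mul_inv_eq_iff_eq_mul, eq_inv_mul_iff_mul_eq, hq', hx, ← coe_mul, ← coe_mul, ← map_mul,
      ← map_mul]
    simp
  · rintro ⟨i, hi⟩
    have : x ^ i = e.symm (.xa 0) := Subtype.ext hi
    obtain ⟨k, hk⟩ := (mem_powers_iff_mem_zpowers (x := x)).2 ⟨i, this⟩
    simp only [hx, ← map_pow, QuaternionGroup.a_one_pow, EmbeddingLike.apply_eq_iff_eq] at hk
    cases hk
  · rw [ox, Nat.card_congr e.toEquiv, Nat.card_eq_fintype_card, QuaternionGroup.card]
    ring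

namespace QD

theorem le (h : QD Q z x) : zpowers x ≤ Q := zpowers_le.2 h.xQ

theorem zx (h : QD Q z x) : z ∈ zpowers x := by
  obtain ⟨t, ht, h1, h2⟩ := pow4 (T2.of h.pg h.xQ) h.x2
  exact ((h.uq _ (h.le (mul_mem ht ht)) h2).resolve_left h1) ▸ mul_mem ht ht

theorem two (h : QD Q z x) (ha : a ∈ Q) (hb : b ∈ Q) (ha' : a ∉ zpowers x) (hb' : b ∉ zpowers x) :
    a * b ∈ zpowers x := idx2 h.le (by rw [h.card, Nat.card_zpowers]) ha hb ha' hb'

theorem cent (h : QD Q z x) (hc : c ∈ Q) (h1 : ∀ q ∈ Q, q * c = c * q) : c * c = 1 := by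
  by_cases k : c ∈ zpowers x
  · obtain ⟨v, hv, hv'⟩ := h.ex
    have := conj_zpowers (h.out v hv hv').2 k
    rwa [h1 v hv, mul_inv_cancel_right, eq_inv_iff_mul_eq_one] at this
  · have := (h.out c hc k).2
    rw [← h1 x h.xQ, mul_inv_cancel_right, eq_inv_iff_mul_eq_one] at this
    exact (h.x2 this).elim

theorem o4 (h : QD Q z x) : ∃ t ∈ zpowers x, t * t = z := by
  obtain ⟨t, ht, h1, h2⟩ := pow4 (T2.of h.pg h.xQ) h.x2
  exact ⟨t, ht, (h.uq _ (h.le (mul_mem ht ht)) h2).resolve_left h1⟩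

theorem tri (h : QD Q z x) : ∃ t ∈ Q, ∃ u ∈ Q, t * t = z ∧ u * u = z ∧ t * u * (t * u) = z := by
  obtain ⟨t, ht, h1⟩ := h.o4
  obtain ⟨v, hv, hv'⟩ := h.ex
  exact ⟨t, h.le ht, v, hv, h1, (h.out v hv hv').1,
    (h.out _ (mul_mem (h.le ht) hv) (by rwa [mul_mem_cancel_left ht])).1⟩

theorem invw (h : QD Q z x) (hw : w ∈ Q) (h1 : w * w = z) : ∃ u ∈ Q, u * w * u⁻¹ = z * w := by
  by_cases k : w ∈ zpowers x
  · obtain ⟨v, hv, hv'⟩ := h.ex
    exact ⟨v, hv, (conj_zpowers (h.out v hv hv').2 k).trans (inv_eq_of_sq h.zz h1)⟩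
  · obtain ⟨t, ht, h2⟩ := h.o4
    refine ⟨t, h.le ht, ?_⟩
    have := conj_zpowers (h.out w hw k).2 (inv_mem ht)
    calc t * w * t⁻¹ = t * (w * t⁻¹ * w⁻¹) * w := by group
      _ = z * w := by rw [this, inv_inv, h2]

theorem four (h : QD Q z x) : 4 ∣ orderOf x := by
  obtain ⟨t, ht, h1⟩ := h.o4
  refine dvd_trans ?_ (orderOf_dvd_of_mem_zpowers ht)
  rw [orderOf_eq_prime_pow (p := 2) (n := 1) (by rw [pow_one, sq, h1]; exact h.z1)
    (by rw [show 2 ^ (1 + 1) = 2 * 2 from rfl, pow_mul, sq, sq, h1, h.zz])]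
  rfl

theorem powx (h : QD Q z x) (hc : c ∈ Q) : c ^ orderOf x = 1 := by
  by_cases k : c ∈ zpowers x
  · exact orderOf_dvd_iff_pow_eq_one.1 (orderOf_dvd_of_mem_zpowers k)
  · obtain ⟨m, hm⟩ := h.four
    rw [hm, pow_mul, show 4 = 2 * 2 from rfl, pow_mul, sq, sq, (h.out c hc k).1, h.zz, one_pow]

theorem half (h : QD Q z x) {m : ℕ} (hm : orderOf x = 2 * m) : x ^ m = z := by
  have h0 := orderOf_pos x
  refine (h.uq _ (pow_mem h.xQ m) (by rw [← pow_add, ← two_mul, ← hm, pow_orderOf_eq_one])).resolve_left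
    (pow_ne_one_of_lt_orderOf (by omega) (by omega))

end QD

theorem conj_pow_fix {n : ℕ} (h : c * x * c⁻¹ = x) : c ^ n * x * (c ^ n)⁻¹ = x :=
  conj_eq_of_comm ((comm_of_conj_eq h).pow_right n)

/-- an automorphism of a quaternion group fixing a commutator of a quarter of its order -/
theorem QD.aut (h : QD Q z x) (hc : c ∈ 𝐍[Q]) (hw : w ∈ Q) (w2 : w * w ≠ 1) (hd : d ∈ Q)
    (h1 : c * d * c⁻¹ = d) (h2 : c * w * c⁻¹ = d * w) (ho : orderOf x = 2 * orderOf d) :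
    c ^ orderOf d ∈ 𝐂[Q] := by
  have cz : c * z * c⁻¹ = z := (h.uq _ (conj_mem_of_mem_normalizer hc (h.le h.zx))
    (by rw [conj_mul, h.zz]; simp)).resolve_left (by simpa using h.z1)
  have hp : ∀ n : ℕ, c ^ n * w * (c ^ n)⁻¹ = d ^ n * w := fun n => by
    induction n with
    | zero => simp
    | succ n ih =>
      calc c ^ (n + 1) * w * (c ^ (n + 1))⁻¹ = c * (c ^ n * w * (c ^ n)⁻¹) * c⁻¹ := by group
        _ = (c * d * c⁻¹) ^ n * (c * w * c⁻¹) := by rw [ih, conj_pow]; group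
        _ = d ^ (n + 1) * w := by rw [h1, h2, pow_succ, mul_assoc]
  have key : ∀ g ∈ Q, c ^ orderOf d * g * (c ^ orderOf d)⁻¹ = g := by
    by_cases o2 : orderOf d = 2
    · have dz : d = z := (h.uq d hd (by rw [← sq, ← o2, pow_orderOf_eq_one])).resolve_left
        (by rintro rfl; simp at o2)
      have w4 : w * w * (w * w) = 1 := by
        have := h.powx hw
        rwa [ho, o2, pow_mul, sq, sq] at this
      have wz : w * w = z := (h.uq _ (mul_mem hw hw) w4).resolve_left w2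
      have ow : orderOf w = 4 := orderOf_eq_prime_pow (p := 2) (n := 1) (by rwa [pow_one, sq])
        (by rwa [show 2 ^ (1 + 1) = 2 * 2 from rfl, pow_mul, sq, sq])
      rw [dz, ← inv_eq_of_sq h.zz wz] at h2
      have hn : c ∈ 𝐍[zpowers w] := mem_normalizer_of_cj_le (cj_le_iff_forall.2 fun y hy => by
        rw [conj_zpowers h2 hy]; exact inv_mem hy)
      intro g hg
      rw [o2, sq]
      by_cases k : g ∈ zpowers w
      · calc c * c * g * (c * c)⁻¹ = c * (c * g * c⁻¹) * c⁻¹ := by group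
          _ = g := by rw [conj_zpowers h2 k, conj_zpowers h2 (inv_mem k), inv_inv]
      · have := idx2 (zpowers_le.2 hw) (by rw [h.card, Nat.card_zpowers, ow, ho, o2]) (inv_mem hg)
          (conj_mem_of_mem_normalizer hc hg) (by rwa [inv_mem_iff])
          fun e => k ((mem_normalizer_iff.1 hn g).2 e)
        calc c * c * g * (c * c)⁻¹ = c * g * c⁻¹ * (c * (g⁻¹ * (c * g * c⁻¹)) * c⁻¹) := by group
          _ = g := by rw [conj_zpowers h2 this]; group
    obtain ⟨m, hm⟩ := h.four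
    have om : orderOf d = 2 * m := by omega
    have x4 : ∀ q ∈ Q, orderOf q = orderOf x → q ∈ zpowers x := fun q hq e => by
      by_contra k
      have : orderOf q ∣ 2 * 2 := orderOf_dvd_of_pow_eq_one (by
        rw [pow_mul, sq, sq, (h.out q hq k).1, h.zz])
      have := Nat.le_of_dvd (by norm_num) this
      have := orderOf_pos d
      omega
    have cx := x4 _ (conj_mem_of_mem_normalizer hc h.xQ) (orderOf_conj' c x)
    have hn : c ∈ 𝐍[zpowers x] := mem_normalizer_of_cj_le (cj_le_iff_forall.2 fun y hy => by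
      obtain ⟨i, rfl⟩ := hy
      simp only [← conj_zpow]
      exact zpow_mem cx i)
    have dx : d ∈ zpowers x := by
      rw [← mul_inv_eq_iff_eq_mul] at h2
      rw [← h2]
      by_cases k : w ∈ zpowers x
      · exact mul_mem (conj_mem_of_mem_normalizer hn k) (inv_mem k)
      · exact h.two (conj_mem_of_mem_normalizer hc hw) (inv_mem hw)
          (fun e => k ((mem_normalizer_iff.1 hn w).2 e)) (by rwa [inv_mem_iff])
    have sq1 : ∀ y ∈ zpowers x, c * y * c⁻¹ * y⁻¹ = 1 ∨ c * y * c⁻¹ * y⁻¹ = z := fun y hy => by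
      have yd : y * y ∈ zpowers d := mul_self_mem_of_index_two (H := (zpowers d).subgroupOf (zpowers x))
        (idx_of_card (zpowers_le.2 dx) (by rw [Nat.card_zpowers, Nat.card_zpowers, ho])) ⟨y, hy⟩
      have cy := conj_mem_of_mem_normalizer hn hy
      refine h.uq _ (h.le (mul_mem cy (inv_mem hy))) ?_
      obtain ⟨i, hi⟩ := yd
      have e : c * (y * y) * c⁻¹ = y * y := by simp only [← hi, ← conj_zpow, h1]
      calc _ = c * y * c⁻¹ * (y⁻¹ * (c * y * c⁻¹)) * y⁻¹ := by group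
        _ = c * (y * y) * c⁻¹ * (y * y)⁻¹ := by rw [comm_zpowers (inv_mem hy) cy]; group
        _ = 1 := by rw [e]; group
    have fx : ∀ y ∈ zpowers x, c ^ orderOf d * y * (c ^ orderOf d)⁻¹ = y := fun y hy => by
      rw [om, pow_mul]
      refine conj_pow_fix ?_
      rcases sq1 y hy with e | e <;> rw [mul_inv_eq_iff_eq_mul] at e
      · exact conj_pow_fix (by rw [e, one_mul])
      · calc c ^ 2 * y * (c ^ 2)⁻¹ = c * (c * y * c⁻¹) * c⁻¹ := by rw [sq]; group
          _ = c * z * c⁻¹ * (c * y * c⁻¹) := by rw [conj_mul, ← e]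
          _ = y := by rw [cz, e, ← mul_assoc, h.zz, one_mul]
    have wx : w ∉ zpowers x := fun k => by
      have := sq1 w k
      rw [h2, mul_inv_cancel_right] at this
      have e : orderOf d ∣ 2 := orderOf_dvd_of_pow_eq_one (by
        rcases this with e | e <;> rw [e, sq]
        exacts [one_mul _, h.zz])
      have := Nat.le_of_dvd two_pos e
      have := orderOf_pos d
      omega
    intro g hg
    by_cases k : g ∈ zpowers x
    · exact fx g k
    · calc _ = c ^ orderOf d * (g * w⁻¹) * (c ^ orderOf d)⁻¹ * (c ^ orderOf d * w * (c ^ orderOf d)⁻¹) := by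
            group
        _ = g := by
          rw [fx _ (h.two hg (inv_mem hw) k (by rwa [inv_mem_iff])), hp, pow_orderOf_eq_one]
          group
  exact fun g hg => (mul_inv_eq_iff_eq_mul.1 (key g hg)).symm

end Cfsg.Agent.IQ
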